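import Groth.Agent.AVAmpleLib.Divisor
import Groth.Agent.RegUFDLib.Basic
import Groth.Agent.AlgSpRegLib.CutByApps
import Groth.Agent.AlgSpLib.Sep
import Groth.Agent.AlgSpLib.Qc

/-! The complement of a dense affine open in a regular separated algebraic space is an effective Cartier divisor. -/

set_option autoImplicit false
set_option maxHeartbeats 1000000
set_option maxRecDepth 8000
set_option backward.isDefEq.respectTransparency false
set_option backward.isDefEq.respectTransparency.types false

universe u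

open CategoryTheory CategoryTheory.Limits AlgebraicGeometry Opposite AlgSp AlgSpLib TopologicalSpace Topology

noncomputable section

namespace AffComplLib

/-- The reduced complement of a dense affine open is effective Cartier when the local rings are factorial. -/
theorem isEffCartier_vanishingIdeal_compl {X : Scheme.{u}} [IsNoetherian X] (U : X.Opens) [IsAffineHom U.ι]
    (hdense : Dense (U : Set X))
    (hufd : ∀ x : X, x ∉ U → IsDomain (X.presheaf.stalk x) ∧ UniqueFactorizationMonoid (X.presheaf.stalk x))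
    (C : Closeds X) (hC : (C : Set X) = (U : Set X)ᶜ) :
    BlowUp.IsEffCartierIdeal (Scheme.IdealSheafData.vanishingIdeal C) := by
  let D := Scheme.IdealSheafData.vanishingIdeal C
  have hsupp : (D.support : Set X) = (U : Set X)ᶜ := by
    rw [Scheme.IdealSheafData.coe_support_vanishingIdeal, hC]
  haveI : AlgebraicGeometry.IsReduced D.subscheme := DevissLib.isReduced_vanishingIdeal' _
  haveI : IsLocallyNoetherian D.subscheme := LocallyOfFiniteType.isLocallyNoetherian D.subschemeι
  refine Groth.Agent.S1700.result X D ?_ ?_ (fun x hx => hufd x ?_)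
  · intro z hz z' hz'
    have hmin := AVAmpleLib.not_assoc_of_not_min hz
    have hr : z' ∈ Set.range (D.subscheme.fromSpecStalk z) := by
      rw [Scheme.range_fromSpecStalk]; exact hz'
    obtain ⟨p, rfl⟩ := hr
    have hp : p = IsLocalRing.closedPoint _ := PrimeSpectrum.ext
      (le_antisymm (IsLocalRing.le_maximalIdeal p.isPrime.ne_top) (hmin.2 ⟨p.isPrime, bot_le⟩
        (IsLocalRing.le_maximalIdeal p.isPrime.ne_top)))
    rw [hp]
    exact Scheme.fromSpecStalk_closedPoint
  · intro z hz
    have hzU : D.subschemeι z ∉ U := fun h => by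
      have : D.subschemeι z ∈ (D.support : Set X) := by
        rw [← Scheme.IdealSheafData.range_subschemeι]; exact ⟨z, rfl⟩
      rw [hsupp] at this
      exact this h
    refine (Groth.Agent.S1573.result X U (D.subschemeι z) hzU fun y hy hyz => ?_).2 hdense
    obtain ⟨w, rfl⟩ : y ∈ Set.range D.subschemeι := by
      rw [Scheme.IdealSheafData.range_subschemeι, hsupp]; exact hy
    exact congrArg D.subschemeι (hz w (D.subschemeι.isClosedEmbedding.isInducing.specializes_iff.1 hyz))
  · have : x ∈ (D.support : Set X) := hx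
    rw [hsupp] at this
    exact this

variable {S : Scheme.{u}}

/-- A fibre product over `G` is cut out by the diagonal inside any product receiving it. -/
theorem isPullback_diag_of_jointlyMono {F G H W V : Sp S} {fst : W ⟶ F} {snd : W ⟶ H} {f : F ⟶ G} {g : H ⟶ G}
    (h : IsPullback fst snd f g) (a : V ⟶ F) (b : V ⟶ H)
    (hab : ∀ {Z : Sp S} (p q : Z ⟶ V), p ≫ a = q ≫ a → p ≫ b = q ≫ b → p = q)
    (m : W ⟶ V) (ha : m ≫ a = fst) (hb : m ≫ b = snd) :
    IsPullback (fst ≫ f) m (Limits.diag G) (prod.lift (a ≫ f) (b ≫ g)) := by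
  refine ⟨⟨?_⟩, ⟨PullbackCone.IsLimit.mk _ (fun s => h.lift (s.snd ≫ a) (s.snd ≫ b) ?_)
    (fun s => ?_) (fun s => ?_) (fun s t _ h2 => ?_)⟩⟩
  · apply Limits.prod.hom_ext <;> simp only [Category.assoc, Limits.prod.lift_fst, Limits.prod.lift_snd,
      reassoc_of% ha, reassoc_of% hb, Category.comp_id, h.w]
  · have h1 := congrArg (· ≫ prod.fst) s.condition
    have h2 := congrArg (· ≫ prod.snd) s.condition
    simp only [Category.assoc, Limits.prod.lift_fst, Limits.prod.lift_snd, Category.comp_id] at h1 h2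
    simp only [Category.assoc]
    rw [← h1, ← h2]
  · have h1 := congrArg (· ≫ prod.fst) s.condition
    simp only [Category.assoc, Limits.prod.lift_fst, Category.comp_id] at h1
    rw [h.lift_fst_assoc, Category.assoc, ← h1]
  · refine hab _ _ ?_ ?_
    · rw [Category.assoc, ha, h.lift_fst]
    · rw [Category.assoc, hb, h.lift_snd]
  · apply h.hom_ext
    · rw [h.lift_fst, ← h2, ← ha, Category.assoc]
    · rw [h.lift_snd, ← h2, ← hb, Category.assoc]

/-- In a separated space over a separated base, affine charts meet in affines. -/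
theorem isAffine_pullback [S.IsSeparated] {X : Sp S} (hsep : IsSeparatedSp X) {T E P : Over S} [IsAffine T.left]
    [IsAffine E.left] {j : (yon S).obj T ⟶ X} {φ : (yon S).obj E ⟶ X} {p : P ⟶ T} {q : P ⟶ E}
    (sq : IsPullback ((yon S).map p) ((yon S).map q) j φ) : IsAffine P.left := by
  let W : Over S := Over.mk (pullback.fst T.hom E.hom ≫ T.hom)
  let pa : W ⟶ T := Over.homMk (pullback.fst T.hom E.hom) rfl
  let pb : W ⟶ E := Over.homMk (pullback.snd T.hom E.hom) pullback.condition.symm
  let m : P ⟶ W := Over.homMk (pullback.lift p.left q.left (by rw [Over.w p, Over.w q]))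
    (by simp [W])
  have hab : ∀ {Z : Sp S} (r t : Z ⟶ (yon S).obj W), r ≫ (yon S).map pa = t ≫ (yon S).map pa →
      r ≫ (yon S).map pb = t ≫ (yon S).map pb → r = t := by
    intro Z r t h1 h2
    refine ObjectProperty.hom_ext _ (NatTrans.ext (funext fun R => ?_))
    ext z
    have e1 : (r.hom.app R z).down ≫ pa = (t.hom.app R z).down ≫ pa :=
      congrArg (fun v : Z ⟶ (yon S).obj T => (v.hom.app R z).down) h1
    have e2 : (r.hom.app R z).down ≫ pb = (t.hom.app R z).down ≫ pb :=
      congrArg (fun v : Z ⟶ (yon S).obj E => (v.hom.app R z).down) h2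
    exact ULift.ext _ _ (Over.OverMorphism.ext (pullback.hom_ext
      (congrArg CommaMorphism.left e1) (congrArg CommaMorphism.left e2)))
  have hm1 : m ≫ pa = p := Over.OverMorphism.ext (pullback.lift_fst _ _ _)
  have hm2 : m ≫ pb = q := Over.OverMorphism.ext (pullback.lift_snd _ _ _)
  have sq' := isPullback_diag_of_jointlyMono sq ((yon S).map pa) ((yon S).map pb) hab ((yon S).map m)
    (by rw [← Functor.map_comp, hm1]) (by rw [← Functor.map_comp, hm2])
  haveI : IsClosedImmersion m.left :=
    (repWith_yon_map_iff (P := (@IsClosedImmersion : MorphismProperty Scheme.{u})) m).1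
      (repWith_of_isPullback sq' hsep)
  haveI : IsAffineHom T.hom := by
    haveI : IsAffineHom (T.hom ≫ terminal.from S) := inferInstance
    exact IsAffineHom.of_comp T.hom (terminal.from S)
  haveI : IsAffineHom (pullback.snd T.hom E.hom) := MorphismProperty.pullback_snd _ _ inferInstance
  haveI : IsAffine W.left := isAffine_of_isAffineHom (pullback.snd T.hom E.hom)
  exact isAffine_of_isAffineHom m.left

theorem main [S.IsSeparated] {X : Sp S} (hX : IsAlgSpace X)
    (hreg : EtaleLocally (fun U => IsLocallyNoetherian U ∧ ∀ u : ↥U, IsRegularLocalRing ↥(U.presheaf.stalk u)) X)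
    (hqc : IsQuasiCompactSp X) (hsep : IsSeparatedSp X) (T : Over S) [IsAffine T.left]
    (j : (yon S).obj T ⟶ X) (hj : RepWith @IsOpenImmersion j) (hdense : Dense (Set.range (Points.ofPt j))) :
    ∃ (D : Sp S) (i : D ⟶ X), IsAlgSpace D ∧ IsEffCartierSub i ∧
      Set.range (Points.map i) = (Set.range (Points.ofPt j))ᶜ := by
  classical
  obtain ⟨U₀, a, ha, has, hN, hR⟩ := hreg
  haveI := hN
  choose O hO htO using fun t : U₀.left => exists_isAffineOpen_mem_and_subset (U := ⊤) (x := t) trivial
  haveI := compactSpace_points_of_isQuasiCompactSp hqc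
  obtain ⟨s, hs⟩ := isCompact_univ.elim_finite_subcover (fun t => Points.ofPt a '' (O t : Set U₀.left))
    (fun t => isOpenMap_ofPt ha _ (O t).2) fun x _ => by
      obtain ⟨t, rfl⟩ := surjective_ofPt has x
      exact Set.mem_iUnion.2 ⟨t, t, (htO t).1, rfl⟩
  let Y : s → Scheme.{u} := fun t => (O t.1).toScheme
  haveI : ∀ t, IsAffine (Y t) := fun t => hO t.1
  let k : ∐ Y ⟶ U₀.left := Sigma.desc fun t : s => (O t.1).ι
  haveI : Etale k := IsZariskiLocalAtSource.sigmaDesc (P := @Etale) fun _ => inferInstance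
  let E : Over S := Over.mk (k ≫ U₀.hom)
  haveI : IsAffine E.left := inferInstanceAs (IsAffine (∐ Y))
  haveI : IsLocallyNoetherian E.left := LocallyOfFiniteType.isLocallyNoetherian k
  haveI : IsNoetherian E.left := ⟨⟩
  have hregE : ∀ e : E.left, IsRegularLocalRing (E.left.presheaf.stalk e) := fun e => by
    obtain ⟨t, z, rfl⟩ : ∃ (t : s) (z : Y t), Sigma.ι Y t z = e :=
      ⟨_, (sigmaOpenCover Y).covers e⟩
    haveI : IsOpenImmersion (Sigma.ι Y t) := inferInstance
    have e1 : IsRegularLocalRing (U₀.left.presheaf.stalk ((O t.1).ι z)) := hR _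
    have e2 : IsRegularLocalRing ((Y t).presheaf.stalk z) :=
      IsRegularLocalRing.of_ringEquiv (asIso ((O t.1).ι.stalkMap z)).commRingCatIsoToRingEquiv
    exact IsRegularLocalRing.of_ringEquiv (asIso ((Sigma.ι Y t).stalkMap z)).commRingCatIsoToRingEquiv.symm
  let ke : E ⟶ U₀ := Over.homMk k rfl
  let φ := (yon S).map ke ≫ a
  have hφ : RepWith @Etale φ := repWith_comp
    ((repWith_yon_map_iff (P := (@Etale : MorphismProperty Scheme.{u})) ke).2 ‹Etale k›) ha
  have hsurj : Function.Surjective (Points.ofPt φ) := fun x => by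
    obtain ⟨t, ht, v, hv, rfl⟩ := Set.mem_iUnion₂.1 (hs (Set.mem_univ x))
    refine ⟨Sigma.ι Y ⟨t, ht⟩ ⟨v, hv⟩, ?_⟩
    rw [ofPt_yon_comp]
    congr 1
    show k (Sigma.ι Y ⟨t, ht⟩ ⟨v, hv⟩) = v
    rw [← Scheme.Hom.comp_apply, Sigma.ι_desc]
    rfl
  have hφs : RepWith @Surjective φ := (repWith_surjective_iff hφ.rep).2 fun x => by
    obtain ⟨v, rfl⟩ := hsurj x
    exact ⟨Points.ofScheme E v, (Points.ofPt_eq_map_ofScheme φ v).symm⟩
  -- the open preimage
  obtain ⟨P, p, q, sq⟩ := exists_isPullback_yon j φ hj.rep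
  haveI : IsOpenImmersion q.left :=
    (repWith_yon_map_iff (P := (@IsOpenImmersion : MorphismProperty Scheme.{u})) q).1 (repWith_of_isPullback sq hj)
  haveI : IsAffine P.left := isAffine_pullback hsep sq
  let W : E.left.Opens := q.left.opensRange
  have hWaff : IsAffineOpen W := isAffineOpen_opensRange q.left
  have hW : (W : Set E.left) = Points.ofPt φ ⁻¹' Set.range (Points.ofPt j) := by
    ext v
    constructor
    · rintro ⟨w, rfl⟩
      exact ⟨p.left w, by rw [← ofPt_yon_comp, ← ofPt_yon_comp, sq.w]⟩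
    · rintro ⟨t, ht⟩
      obtain ⟨w, -, hw⟩ := exists_point_isPullback sq (Points.ofScheme T t) (Points.ofScheme E v)
        (by rw [← Points.ofPt_eq_map_ofScheme, ← Points.ofPt_eq_map_ofScheme, ht])
      obtain ⟨w, rfl⟩ := (Points.schemeEquiv P).surjective w
      exact ⟨w, (Points.schemeEquiv E).injective ((Points.map_yon_map_apply q w).symm.trans hw)⟩
  have hopen : IsOpen (Set.range (Points.ofPt j)) := by
    have e : Points.ofPt φ '' (W : Set E.left) = Set.range (Points.ofPt j) := by
      rw [hW, Set.image_preimage_eq _ hsurj]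
    rw [← e]
    exact isOpenMap_ofPt hφ _ W.2
  have hWd : Dense (W : Set E.left) := by
    rw [hW]; exact hdense.preimage (isOpenMap_ofPt hφ)
  haveI : IsAffineHom W.ι := AVAmpleLib.isAffineHom_ι (fun _ _ h h' => h.inf h') hWaff
  let C : Closeds E.left := ⟨Points.ofPt φ ⁻¹' (Set.range (Points.ofPt j))ᶜ,
    hopen.isClosed_compl.preimage (Points.continuous_ofPt φ)⟩
  have hI := isEffCartier_vanishingIdeal_compl W hWd (fun x _ => by
    haveI := hregE x
    exact ⟨CommAlgDim.isDomain_of_isRegularLocalRing _, RegUFDLib.uniqueFactorizationMonoid _⟩) C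
    (by rw [hW]; rfl)
  obtain ⟨D, i, z, hD, hi, sqD, -⟩ := AlgSpRegLib.exists_closedSub hX hφ hφs (Scheme.IdealSheafData.vanishingIdeal C)
    (AlgSpRegLib.comap_eq_of_relation hφ _ fun R p q hp hq w => by
      haveI := hp; haveI := hq
      rw [AlgSpRegLib.comap_vanishingIdeal_etale, AlgSpRegLib.comap_vanishingIdeal_etale]
      congr 1
      refine Closeds.ext ?_
      ext x
      show ¬ Points.ofPt φ (p.left x) ∈ Set.range (Points.ofPt j) ↔ ¬ Points.ofPt φ (q.left x) ∈ Set.range (Points.ofPt j)
      rw [← ofPt_yon_comp, ← ofPt_yon_comp, w])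
  refine ⟨D, i, hD, ⟨hi, E, φ, _, z, hφ, hφs, sqD, hI⟩, ?_⟩
  ext y
  obtain ⟨v, rfl⟩ := hsurj y
  rw [← AlgSpRegLib.mem_range_iff sqD v]
  show v ∈ Set.range (Scheme.IdealSheafData.vanishingIdeal C).subschemeι ↔ _
  rw [Scheme.IdealSheafData.range_subschemeι, Scheme.IdealSheafData.coe_support_vanishingIdeal]
  rfl

end AffComplLib
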